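import Cfsg.Agent.Lib.Local.SThreePair.Endgame
import Cfsg.Agent.Lib.Local.JComp.Local

/-!
# A residue of order `2q` with an offender in the Sylow subgroup forces `q = 3`
-/

set_option autoImplicit false
set_option linter.style.haveILetI false

namespace Cfsg.Lib.Local.SThreePair

open Subgroup Cfsg Cfsg.Lib Cfsg.Lib.Local

variable {H : Type*} [Group H] [Finite H]

/-- `G` has a residue of order `2q`, `Ω₁Z(S)` is not central, and no nontrivial subgroup of `S` is normalized by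
`G` and `g ∈ N(S)`: then `q = 3`. -/
theorem residue_eq_three (G S : Subgroup H) (hSG : S ≤ G) (hS : IsPGroup 2 S) {q : ℕ} (hq : q.Prime)
    (hq2 : q ≠ 2) (hGc : Nat.card G = q * Nat.card S) (hSc : Nat.card S = 2 * Nat.card (pCoreOf 2 G))
    (hchar : G ⊓ centralizer (pCoreOf 2 G : Set H) ≤ pCoreOf 2 G)
    (hnc : ¬ G ≤ centralizer (omegaOne 2 (S ⊓ centralizer (S : Set H)) : Set H))
    {g : H} (hg : g ∈ normalizer (S : Set H))
    (hno : ∀ N : Subgroup H, N ≤ S → G ≤ normalizer (N : Set H) → g ∈ normalizer (N : Set H) → N = ⊥) :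
    q = 3 := by
  classical
  haveI : Fact (Nat.Prime 2) := ⟨Nat.prime_two⟩
  haveI : Fact q.Prime := ⟨hq⟩
  set Q := pCoreOf 2 G
  have hQG : Q ≤ G := map_subtype_le _
  have hQn : G ≤ normalizer (Q : Set H) := by
    refine Core.le_normalizer_iff_conj_mem.mpr ?_
    rintro x hx _ ⟨y, hy, rfl⟩
    exact ⟨⟨x, hx⟩ * y * ⟨x, hx⟩⁻¹, (inferInstance : (pCore 2 ↥G).Normal).conj_mem y hy _, rfl⟩
  have hle_Q : ∀ N : Subgroup H, N ≤ S → G ≤ normalizer (N : Set H) → N ≤ Q := fun N hN hn x hx => by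
    haveI : (N.subgroupOf G).Normal := (normal_subgroupOf_iff_le_normalizer (hN.trans hSG)).mpr hn
    exact ⟨⟨x, hSG (hN hx)⟩, Core.le_pCore (N := N.subgroupOf G) (hS.to_le hN).comap_subtype hx, rfl⟩
  have hmax : ∀ N : Subgroup H, S ≤ N → N ≤ G → ¬ N ≤ S → N = G := by
    intro N h1 h2 h3
    refine Subgroup.eq_of_le_of_card_ge h2 ?_
    have e1 := Core.card_mul_relIndex h1
    have e2 := Core.card_mul_relIndex h2
    have hd : S.relIndex N ∣ q := by
      refine Nat.dvd_of_mul_dvd_mul_left (Nat.card_pos (α := S)) ⟨N.relIndex G, ?_⟩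
      rw [e1, e2, hGc, mul_comm]
    rcases (Nat.dvd_prime hq).mp hd with e | e
    · exact absurd (relIndex_eq_one.mp e) h3
    · rw [← e1, e, hGc, mul_comm]
  have hsyl : IsSylowIn 2 S G := by
    obtain ⟨k, hk⟩ := IsPGroup.iff_card.mp hS
    refine isSylowIn_of_card hSG hS (le_of_eq ?_)
    rw [hGc, hk, Nat.factorization_mul hq.ne_zero (by positivity), Nat.Prime.factorization hq,
      Nat.Prime.factorization_pow Nat.prime_two]
    simp [hq2]
  have hQS : Q ≤ S := by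
    obtain ⟨P, hP⟩ := hsyl
    exact hP ▸ map_mono (Core.pCore_le_sylow P)
  set O := omegaOne 2 (S ⊓ centralizer (S : Set H))
  set Z := sylowCenterClosure 2 G
  have hZC : Z ≤ centralizer (Q : Set H) := iSup_le fun P => (closure_le _).mpr fun x hx =>
    centralizer_le (map_mono (Core.pCore_le_sylow P)) hx.1.2
  have hZQ : Z ≤ Q := fun z hz => hchar ⟨sylowCenterClosure_le_self G hz, hZC hz⟩
  have hcomm : ∀ {x y : H}, x ∈ Z → y ∈ Q → Commute y x := fun {x y} hx hy =>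
    mem_centralizer_iff.mp (hZC hx) y hy
  have hZsq : ∀ {x : H}, x ∈ Z → x * x = 1 := by
    let S2 : Subgroup H :=
      { carrier := {x | x ∈ Z ∧ x * x = 1}
        one_mem' := ⟨one_mem _, one_mul 1⟩
        mul_mem' := fun {a b} ha hb => ⟨mul_mem ha.1 hb.1, by
          rw [(hcomm ha.1 (hZQ hb.1)).mul_mul_mul_comm, ha.2, hb.2, one_mul]⟩
        inv_mem' := fun {a} ha => ⟨inv_mem ha.1, by rw [← mul_inv_rev, ha.2, inv_one]⟩ }
    have hle : Z ≤ S2 := iSup_le fun P => (closure_le _).mpr fun x hx =>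
      ⟨le_iSup (fun S : Sylow 2 G => omegaOne 2 (((S : Subgroup G).map G.subtype) ⊓
        centralizer (((S : Subgroup G).map G.subtype : Subgroup H) : Set H))) P (subset_closure hx),
        by rw [← pow_two]; exact hx.2⟩
    exact fun {x} hx => (hle hx).2
  have hZn : G ≤ normalizer (Z : Set H) := sylowCenterClosure_normalized G
  have hCQ : G ⊓ centralizer (Z : Set H) ≤ Q := by
    by_cases hle : G ⊓ centralizer (Z : Set H) ≤ S
    · refine hle_Q _ hle (Core.le_normalizer_iff_conj_mem.mpr fun x hx c hc =>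
        ⟨G.mul_mem (G.mul_mem hx hc.1) (G.inv_mem hx), mem_centralizer_iff.mpr fun z hz => ?_⟩)
      have h1 := (mem_normalizer_iff''.mp (hZn hx) z).mp hz
      calc z * (x * c * x⁻¹) = x * ((x⁻¹ * z * x) * c) * x⁻¹ := by group
        _ = x * (c * (x⁻¹ * z * x)) * x⁻¹ := by rw [mem_centralizer_iff.mp hc.2 _ h1]
        _ = x * c * x⁻¹ * z := by group
    · exfalso
      have hOS : O ≤ centralizer (S : Set H) := (closure_le _).mpr fun x hx => hx.1.2
      have hN := hmax (G ⊓ centralizer (O : Set H)) (le_inf hSG fun s hs => mem_centralizer_iff.mpr fun z hz =>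
        (mem_centralizer_iff.mp (hOS hz) s hs).symm) inf_le_left fun hn =>
          hle fun c hc => hn ⟨hc.1, centralizer_le (omegaCenter_le_closure hsyl) hc.2⟩
      exact hnc (hN.ge.trans inf_le_right)
  obtain ⟨ρ₀, hρ₀⟩ := exists_prime_orderOf_dvd_card' (G := G) q ⟨_, hGc⟩
  have hρ : orderOf (ρ₀ : H) = q := by rw [orderOf_coe]; exact hρ₀
  have hρQ : (ρ₀ : H) ∉ Q := fun hm => by
    obtain ⟨k, hk⟩ := (hS.to_le hQS) ⟨_, hm⟩
    have := orderOf_dvd_of_pow_eq_one (congrArg Subtype.val hk : (ρ₀ : H) ^ 2 ^ k = 1)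
    rw [hρ] at this
    exact hq2 ((Nat.prime_dvd_prime_iff_eq hq Nat.prime_two).mp (hq.dvd_of_dvd_pow this))
  have hZbot : Z ≠ ⊥ := fun e => hρQ (hCQ ⟨ρ₀.2, mem_centralizer_iff.mpr fun z hz => by
    rw [e] at hz; rw [mem_bot.mp hz, one_mul, mul_one]⟩)
  -- elementary abelian subgroups of `S` of largest order
  haveI : Nonempty {A : Subgroup H // A ≤ S ∧ ∀ x ∈ A, x * x = 1} :=
    ⟨⟨Z, hZQ.trans hQS, fun x hx => hZsq hx⟩⟩
  obtain ⟨A₀, hA₀⟩ := Finite.exists_max fun A : {A : Subgroup H // A ≤ S ∧ ∀ x ∈ A, x * x = 1} => Nat.card A.1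
  obtain ⟨A, hAS, hAsq, hAc, hAQ⟩ : ∃ A : Subgroup H, A ≤ S ∧ (∀ x ∈ A, x * x = 1) ∧
      Nat.card A = Nat.card A₀.1 ∧ ¬ A ≤ Q := by
    by_contra hcon
    simp only [not_exists, not_and, not_not] at hcon
    set 𝒜 : Set (Subgroup H) := {A | A ≤ S ∧ (∀ x ∈ A, x * x = 1) ∧ Nat.card A = Nat.card A₀.1}
    have hn : ∀ x : H, (∀ A ∈ 𝒜, A.map (MulAut.conj x).toMonoidHom ≤ S) →
        x ∈ normalizer ((sSup 𝒜 : Subgroup H) : Set H) := fun x hx => by
      refine Core.mem_normalizer_iff_map_conj.mpr (Subgroup.eq_of_le_of_card_ge ?_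
        (le_of_eq (Nat.card_congr ((MulAut.conj x).subgroupMap _).toEquiv)))
      rw [map_le_iff_le_comap]
      refine sSup_le fun A hA => map_le_iff_le_comap.mp (le_sSup ⟨hx A hA, ?_, ?_⟩)
      · rintro _ ⟨y, hy, rfl⟩
        rw [← map_mul, hA.2.1 y hy, map_one]
      · rw [card_map_equiv, hA.2.2]
    have hbot := hno (sSup 𝒜) (sSup_le fun A hA => hA.1)
      (fun x hx => hn x fun A hA => ((map_mono (hcon A hA.1 hA.2.1 hA.2.2)).trans
        (Core.map_conj_eq_of_mem_normalizer (hQn hx)).le).trans hQS)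
      (hn g fun A hA => (map_mono hA.1).trans (Core.map_conj_eq_of_mem_normalizer hg).le)
    have h1 : A₀.1 = ⊥ := eq_bot_iff.mpr (hbot ▸ le_sSup ⟨A₀.2.1, A₀.2.2, rfl⟩)
    have h2 := hA₀ ⟨Z, hZQ.trans hQS, fun x hx => hZsq hx⟩
    rw [h1, card_bot] at h2
    exact hZbot (Subgroup.eq_bot_of_card_le Z h2)
  obtain ⟨a, haA, haQ⟩ := SetLike.not_le_iff_exists.mp hAQ
  have hAcomm : ∀ {x y : H}, x ∈ A → y ∈ A → Commute x y := fun {x y} hx hy => by
    show x * y = y * x
    calc x * y = (x * y)⁻¹ := (inv_eq_of_mul_eq_one_right (hAsq _ (A.mul_mem hx hy))).symm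
      _ = _ := by rw [mul_inv_rev, inv_eq_of_mul_eq_one_right (hAsq x hx), inv_eq_of_mul_eq_one_right (hAsq y hy)]
  set D := A ⊓ Z
  have hZle : Nat.card Z ≤ 2 * Nat.card D := by
    set B := (A ⊓ Q) ⊔ Z
    have hnorm : Z ≤ normalizer ((A ⊓ Q : Subgroup H) : Set H) := fun z hz =>
      centralizer_le_normalizer _ (mem_centralizer_iff.mpr fun x hx => hcomm hz hx.2)
    have h1 := JComp.card_sup_mul_card_inf' hnorm
    have hB : Nat.card B ≤ Nat.card A := by
      rw [hAc]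
      refine hA₀ ⟨B, sup_le (inf_le_left.trans hAS) (hZQ.trans hQS), fun x hx => ?_⟩
      rw [show B = Z ⊔ (A ⊓ Q) from sup_comm _ _] at hx
      obtain ⟨z, hz, y, hy, rfl⟩ := (Core.mem_sup_of_le_normalizer hnorm).mp hx
      rw [(hcomm hz hy.2).mul_mul_mul_comm, hZsq hz, hAsq y hy.1, one_mul]
    have hinf : A ⊓ Q ⊓ Z = D := le_antisymm (le_inf (inf_le_left.trans inf_le_left) inf_le_right)
      (le_inf (le_inf inf_le_left (inf_le_right.trans hZQ)) inf_le_right)
    rw [hinf] at h1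
    have hA2 : Nat.card A ≤ 2 * Nat.card ↥(A ⊓ Q) := by
      have h2 := Core.card_mul_relIndex (inf_le_left : A ⊓ Q ≤ A)
      have h3 : (A ⊓ Q).relIndex A ≤ 2 := by
        rw [inf_relIndex_left]
        have h4 := Core.card_mul_relIndex hQS
        rw [hSc, Nat.mul_comm 2] at h4
        have h5 := Nat.eq_of_mul_eq_mul_left Nat.card_pos h4
        exact (relIndex_le_of_le_right hAS (by rw [h5]; omega)).trans h5.le
      rw [← h2, Nat.mul_comm 2]
      exact Nat.mul_le_mul_left _ h3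
    refine Nat.le_of_mul_le_mul_left ?_ (Nat.card_pos (α := ↥(A ⊓ Q)))
    rw [← h1, ← mul_assoc, Nat.mul_comm _ 2]
    exact Nat.mul_le_mul_right _ (hB.trans hA2)
  -- a conjugate of `a` outside `S`
  obtain ⟨k, hk, hkS⟩ : ∃ k ∈ G, k * a * k⁻¹ ∉ S := by
    by_contra hcon
    simp only [not_exists, not_and, not_not] at hcon
    set N := closure {y | ∃ k ∈ G, y = k * a * k⁻¹}
    have hNS : N ≤ S := (closure_le _).mpr (by rintro _ ⟨k, hk, rfl⟩; exact hcon k hk)
    refine haQ (hle_Q N hNS ?_ (subset_closure ⟨1, one_mem _, by group⟩))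
    refine Core.le_normalizer_iff_conj_mem.mpr fun x hx y hy => ?_
    suffices hs : N ≤ N.comap (MulAut.conj x).toMonoidHom from hs hy
    refine (closure_le _).mpr ?_
    rintro _ ⟨k, hk, rfl⟩
    exact subset_closure ⟨x * k, mul_mem hx hk, by simp [mul_assoc]⟩
  set D' := D.map (MulAut.conj k).toMonoidHom
  set C₀ := D ⊓ D'
  have hD'Z : D' ≤ Z := (map_mono inf_le_right).trans (Core.map_conj_eq_of_mem_normalizer (hZn hk)).le
  have hC4 : Nat.card Z ≤ 4 * Nat.card C₀ := by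
    have hn : D' ≤ normalizer (D : Set H) := fun y hy => centralizer_le_normalizer _
      (mem_centralizer_iff.mpr fun x hx => hcomm (hD'Z hy) (hZQ hx.2))
    have h1 := JComp.card_sup_mul_card_inf' hn
    rw [show Nat.card D' = Nat.card D from card_map_equiv _ D] at h1
    have h2 : Nat.card ↥(D ⊔ D') ≤ Nat.card Z := Nat.card_le_card_of_injective _
      (Subgroup.inclusion_injective (sup_le inf_le_right hD'Z))
    refine Nat.le_of_mul_le_mul_left ?_ (Nat.card_pos (α := Z))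
    calc Nat.card Z * Nat.card Z ≤ (2 * Nat.card D) * (2 * Nat.card D) := Nat.mul_le_mul hZle hZle
      _ = 4 * (Nat.card D * Nat.card D) := by ring
      _ ≤ 4 * (Nat.card Z * Nat.card C₀) := Nat.mul_le_mul_left 4 (h1 ▸ Nat.mul_le_mul_right _ h2)
      _ = _ := by ring
  have hGC₀ : G ≤ centralizer (C₀ : Set H) := by
    have hQC : Q ≤ G ⊓ centralizer (C₀ : Set H) := le_inf hQG fun y hy =>
      mem_centralizer_iff.mpr fun c hc => (hcomm hc.1.2 hy).eq.symm
    have haC : a ∈ G ⊓ centralizer (C₀ : Set H) :=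
      ⟨hSG (hAS haA), mem_centralizer_iff.mpr fun c hc => (hAcomm hc.1.1 haA).eq⟩
    have hSC : S ≤ G ⊓ centralizer (C₀ : Set H) := by
      intro s hs
      by_cases hsQ : s ∈ Q
      · exact hQC hsQ
      · have h2 : (Q.subgroupOf S).index = 2 := by
          have h4 := Core.card_mul_relIndex hQS
          rw [hSc, Nat.mul_comm 2] at h4
          exact Nat.eq_of_mul_eq_mul_left Nat.card_pos h4
        have h3 : a⁻¹ * s ∈ Q := (mul_mem_iff_of_index_two h2 (a := ⟨a, hAS haA⟩⁻¹) (b := ⟨s, hs⟩)).mpr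
          (iff_of_false (fun hm => haQ (by simpa [mem_subgroupOf] using hm)) (fun hm => hsQ hm))
        have h5 := mul_mem haC (hQC h3)
        rwa [mul_inv_cancel_left] at h5
    refine (hmax _ hSC inf_le_left fun hle => hkS (hle ⟨G.mul_mem (G.mul_mem hk (hSG (hAS haA))) (G.inv_mem hk),
      mem_centralizer_iff.mpr fun c hc => ?_⟩)).ge.trans inf_le_right
    obtain ⟨d, hd, rfl⟩ := hc.2
    show (k * d * k⁻¹) * (k * a * k⁻¹) = (k * a * k⁻¹) * (k * d * k⁻¹)
    calc (k * d * k⁻¹) * (k * a * k⁻¹) = k * (d * a) * k⁻¹ := by group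
      _ = k * (a * d) * k⁻¹ := by rw [(hAcomm hd.1 haA).eq]
      _ = _ := by group
  -- the cosets of `C₀` in a moved orbit
  obtain ⟨z, hz, hzρ⟩ : ∃ z ∈ Z, ¬ Commute (ρ₀ : H) z := by
    by_contra hcon
    simp only [not_exists, not_and, not_not] at hcon
    exact hρQ (hCQ ⟨ρ₀.2, mem_centralizer_iff.mpr fun z hz => (hcon z hz).eq.symm⟩)
  have hfix : ∀ n : ℕ, ¬ q ∣ n → ∀ c ∈ C₀, (ρ₀ : H) ^ n * z * ((ρ₀ : H) ^ n)⁻¹ ≠ z * c := by
    intro n hn c hc e
    set σ := (ρ₀ : H) ^ n with hσ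
    have hσc : Commute σ c := (mem_centralizer_iff.mp (hGC₀ (G.pow_mem ρ₀.2 n)) c hc).symm
    have hiter : ∀ j : ℕ, σ ^ j * z * (σ ^ j)⁻¹ = z * c ^ j := by
      intro j
      induction j with
      | zero => simp
      | succ j ih =>
        calc σ ^ (j + 1) * z * (σ ^ (j + 1))⁻¹ = σ * (σ ^ j * z * (σ ^ j)⁻¹) * σ⁻¹ := by
              rw [pow_succ']; group
          _ = (σ * z * σ⁻¹) * (σ * c ^ j * σ⁻¹) := by rw [ih]; group
          _ = z * c * c ^ j := by rw [e, (hσc.pow_right j).eq, mul_inv_cancel_right]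
          _ = _ := by rw [mul_assoc, pow_succ']
    have hσq : σ ^ q = 1 := by rw [hσ, ← pow_mul, Nat.mul_comm, pow_mul, ← hρ, pow_orderOf_eq_one, one_pow]
    have hcq : c ^ q = 1 := by
      have := hiter q
      rw [hσq, one_mul, inv_one, mul_one] at this
      exact mul_eq_left.mp this.symm
    have hc1 : c = 1 := orderOf_eq_one_iff.mp (Nat.eq_one_of_dvd_coprimes
      ((Nat.coprime_primes hq Nat.prime_two).mpr hq2) (orderOf_dvd_of_pow_eq_one hcq)
      (orderOf_dvd_of_pow_eq_one (by rw [pow_two]; exact hZsq hc.1.2)))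
    rw [hc1, mul_one] at e
    apply hzρ
    obtain ⟨i, hi⟩ : ∃ i : ℕ, σ ^ i = (ρ₀ : H) := by
      refine exists_pow_eq_self_of_coprime ?_
      rw [hρ]
      exact ((hq.coprime_iff_not_dvd).mpr hn).symm
    rw [← hi]
    exact Commute.pow_left (mul_inv_eq_iff_eq_mul.mp e) i
  set N₀ := C₀.subgroupOf Z
  have hidx : N₀.index ≤ 4 := by
    have h1 := Core.card_mul_relIndex (inf_le_left.trans inf_le_right : C₀ ≤ Z)
    refine Nat.le_of_mul_le_mul_left ?_ (Nat.card_pos (α := C₀))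
    show Nat.card C₀ * C₀.relIndex Z ≤ _
    rw [h1, Nat.mul_comm]
    exact hC4
  have hzmem : ∀ n : ℕ, (ρ₀ : H) ^ n * z * ((ρ₀ : H) ^ n)⁻¹ ∈ Z := fun n =>
    (mem_normalizer_iff.mp (hZn (G.pow_mem ρ₀.2 n)) z).mp hz
  let f : Option (Fin q) → ↥Z ⧸ N₀ := fun o => o.elim (QuotientGroup.mk (1 : ↥Z))
    fun i => QuotientGroup.mk ⟨_, hzmem i⟩
  have hinj : Function.Injective f := by
    have key : ∀ i j : ℕ, i ≤ j → j < q →
        ((ρ₀ : H) ^ i * z * ((ρ₀ : H) ^ i)⁻¹)⁻¹ * ((ρ₀ : H) ^ j * z * ((ρ₀ : H) ^ j)⁻¹) ∈ C₀ → i = j := by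
      intro i j hij hj hm
      by_contra hne
      obtain ⟨n, rfl⟩ := Nat.exists_eq_add_of_le hij
      set c := ((ρ₀ : H) ^ i * z * ((ρ₀ : H) ^ i)⁻¹)⁻¹ * ((ρ₀ : H) ^ (i + n) * z * ((ρ₀ : H) ^ (i + n))⁻¹) with hc
      have hcc : ((ρ₀ : H) ^ i)⁻¹ * c * (ρ₀ : H) ^ i = c := by
        rw [mul_assoc, mem_centralizer_iff.mp (hGC₀ (G.pow_mem ρ₀.2 i)) c hm, inv_mul_cancel_left]
      refine hfix n (fun hd => ?_) c hm ?_
      · have := Nat.le_of_dvd (by omega) hd
        omega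
      · rw [← hcc, hc, pow_add]
        group
    have hone : ∀ i : ℕ, (ρ₀ : H) ^ i * z * ((ρ₀ : H) ^ i)⁻¹ ∉ C₀ := fun i hm => by
      apply hzρ
      have h1 := mem_centralizer_iff.mp (hGC₀ (G.pow_mem ρ₀.2 i)) _ hm
      have hzC : (ρ₀ : H) ^ i * z * ((ρ₀ : H) ^ i)⁻¹ = z :=
        mul_left_cancel (a := (ρ₀ : H) ^ i) (by rw [← h1]; group)
      exact (mem_centralizer_iff.mp (hGC₀ ρ₀.2) z (hzC ▸ hm)).symm
    rintro (_ | ⟨i, hi⟩) (_ | ⟨j, hj⟩) e
    · rfl
    · exfalso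
      have h1 := QuotientGroup.eq.mp e
      simp [N₀, mem_subgroupOf] at h1
      exact hone j h1
    · exfalso
      have h1 := QuotientGroup.eq.mp e.symm
      simp [N₀, mem_subgroupOf] at h1
      exact hone i h1
    · have h1 := QuotientGroup.eq.mp e
      rcases le_total i j with hij | hij
      · exact congrArg some (Fin.ext (key i j hij hj h1))
      · have h2 := N₀.inv_mem h1
        rw [mul_inv_rev, inv_inv] at h2
        exact congrArg some (Fin.ext (key j i hij hi h2).symm)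
  have hle : Nat.card (Option (Fin q)) ≤ Nat.card (↥Z ⧸ N₀) := Nat.card_le_card_of_injective f hinj
  rw [Nat.card_eq_fintype_card, Fintype.card_option, Fintype.card_fin] at hle
  have h4 : Nat.card (↥Z ⧸ N₀) ≤ 4 := hidx
  have := hq.two_le
  omega

end Cfsg.Lib.Local.SThreePair
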